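import Groth.Agent.Surf.K332.HodgeFib

/-!
# Fibres of a surface over a curve and the Hodge index theorem (K332)
-/

set_option autoImplicit false
universe u
open CategoryTheory CategoryTheory.Limits AlgebraicGeometry Opposite TopologicalSpace

namespace K332.HodgeFib

open Groth.Agent Groth.Agent.Grpsch.PicGrp Groth.Agent.Dix.IdealModCartier Groth.Agent.Divis.EffCartier
open K464.Base K464.Curves

theorem exists_pos (p q : ℤ) (h : 0 < q) : ∃ n : ℕ, 0 < p + 2 * (n : ℤ) * q := by
  refine ⟨(|p| + 1).toNat, ?_⟩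
  have h3 : 0 ≤ |p| + 1 := by positivity
  rw [Int.toNat_of_nonneg h3]
  have h4 := neg_abs_le p
  nlinarith [abs_nonneg p, mul_le_mul_of_nonneg_left (Int.add_one_le_of_lt h) h3]

section fib

variable (k : Type u) [Field k] {X C : Scheme.{u}} [X.Over (Spec (CommRingCat.of k))]
  [IsProper (X ↘ Spec (CommRingCat.of k))] [IsIntegral X]
  (hreg : ∀ x : X, IsRegularLocalRing (X.presheaf.stalk x)) (hdim : topologicalKrullDim X = 2)
  [IsIntegral C] [IsLocallyNoetherian C] (hdimC : topologicalKrullDim C = 1)
  (hregC : ∀ c : C, IsRegularLocalRing (C.presheaf.stalk c))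
  (f : X ⟶ C) [IsDominant f] (c : C) (hc : IsClosed ({c} : Set C))

include hreg hdim in
/-- A class which has degree zero on the components of a fibre is orthogonal to the fibre. -/
theorem dot_fiber_eq_zero (hE : BlowUp.IsEffCartierIdeal (f.fiberι c).ker)
    (hcl : IsClosedImmersion (C.fromSpecResidueField c)) (b : Pic X)
    (hb : ∀ D : X.IdealSheafData, IsCurve D → (∀ x ∈ (D.support : Set X), f x = c) → degOn k X D b = 0) :
    dot k X (ic (f.fiberι c).ker hE) b = 0 := by
  have hd : topologicalKrullDim X ≤ (2 : ℕ) := by rw [hdim]; rfl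
  have hN : IsLocallyNoetherian X := LocallyOfFiniteType.isLocallyNoetherian (X ↘ (Spec (CommRingCat.of k)))
  have hcp : CompactSpace X := QuasiCompact.compactSpace_of_compactSpace (X ↘ (Spec (CommRingCat.of k)))
  have hN' : IsNoetherian X := {}
  have hf := K458.Decomp.factorial_of_regular hreg
  obtain ⟨s, hs, hs'⟩ := K458.Decomp.exists_multiset hf (f.fiberι c).ker hE
  have key : ∀ t : Multiset X, (∀ y ∈ t, y ∈ s) →
      ∃ h : BlowUp.IsEffCartierIdeal (t.map K458.Decomp.pt).prod, dot k X (ic _ h) b = 0 := by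
    intro t
    induction t using Multiset.induction_on with
    | empty =>
      intro _
      have e : ((0 : Multiset X).map K458.Decomp.pt).prod = 1 := by simp
      refine ⟨by rw [e]; exact isEff_one, ?_⟩
      rw [ic_congr _ isEff_one e, ic_one, dot_one_left]
    | cons y t ih =>
      intro hy
      obtain ⟨h1, h2⟩ := ih fun z hz => hy z (Multiset.mem_cons_of_mem hz)
      have hys := hs' y (hy y (Multiset.mem_cons_self y t))
      have h3 : BlowUp.IsEffCartierIdeal (K458.Decomp.pt y) := K458.Decomp.isEff_pt hf y hys.2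
      have e : ((y ::ₘ t).map K458.Decomp.pt).prod = K458.Decomp.pt y * (t.map K458.Decomp.pt).prod := by simp
      have h4 := isEff_mul h3 h1
      refine ⟨by rw [e]; exact h4, ?_⟩
      have hC : IsCurve (K458.Decomp.pt y) := ⟨K458.Decomp.isIntegral_pt y, K458.Decomp.dim_pt k hdim y hys.2⟩
      rw [ic_congr _ h4 e, ic_mul h3 h1, dot_mul_left k X hd, h2, add_zero, dot_ic_eq k X h3, hb _ hC, neg_zero]
      intro x hx
      rw [K458.Decomp.support_pt] at hx
      have h5 : x ∈ ((f.fiberι c).ker.support : Set X) :=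
        closure_minimal (Set.singleton_subset_iff.2 hys.1) (f.fiberι c).ker.support.isClosed hx
      exact (K456.FibDiv.mem_support_fiber f c x).1 h5
  obtain ⟨h, h'⟩ := key s fun _ h => h
  rw [ic_congr hE h hs]
  exact h'

include hdimC hregC hc in
/-- The fibre has degree zero on curves contracted to the same point. -/
theorem degOn_fiber_eq_zero (hE : BlowUp.IsEffCartierIdeal (f.fiberι c).ker)
    (D : X.IdealSheafData) (hD : IsCurve D) (h : ∀ x ∈ (D.support : Set X), f x = c) :
    degOn k X D (ic (f.fiberι c).ker hE) = 0 := by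
  have := hD.integral
  obtain ⟨e⟩ := K456.FibDiv.pullback_ideal_point f c hdimC hregC hc
  have h1 := K456.FibDiv.dg_pullback_eq_zero k D f c hc (h _ (gp_mem hD))
    (isInvertible_idealMod (K456.FibDiv.isEff_point hdimC hregC c hc))
  rw [K456.Base.dg_congr k D e] at h1
  exact h1

/-- The main theorem. -/
theorem main [GeometricallyIrreducible (X ↘ Spec (CommRingCat.of k))]
    [C.Over (Spec (CommRingCat.of k))] [IsProper (C ↘ Spec (CommRingCat.of k))]
    (hf : f ≫ (C ↘ Spec (CommRingCat.of k)) = X ↘ Spec (CommRingCat.of k))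
    (hreg : ∀ x : X, IsRegularLocalRing (X.presheaf.stalk x)) (hdim : topologicalKrullDim X = 2)
    (hdimC : topologicalKrullDim C = 1) (hregC : ∀ c : C, IsRegularLocalRing (C.presheaf.stalk c))
    (l : Pic X)
    (hvert : ∀ D : X.IdealSheafData, IsCurve D → ((f : X → C) '' (D.support : Set X)).Subsingleton →
      degOn k X D l = 0)
    (P : X.IdealSheafData) (hP : IsCurve P) (hPh : ((f : X → C) '' (P.support : Set X)).Nontrivial)
    (hlP : degOn k X P l = 0) :
    dot k X l l ≤ 0 ∧ (dot k X l l = 0 →
      ∀ (Y : Scheme.{u}) (i : Y ⟶ X) [IsClosedImmersion i] [IsIntegral Y], topologicalKrullDim Y = 1 →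
        degOn k X i.ker l = 0) := by
  have hd : topologicalKrullDim X ≤ (2 : ℕ) := by rw [hdim]; rfl
  have hpf : IsProper f := by
    have : IsProper (f ≫ (C ↘ Spec (CommRingCat.of k))) := by rw [hf]; infer_instance
    exact MorphismProperty.of_postcomp (W := @IsProper) (W' := @IsSeparated) f (C ↘ Spec (CommRingCat.of k))
      inferInstance this
  have hPE : BlowUp.IsEffCartierIdeal P := isEff_of_isCurve k (X ↘ (Spec (CommRingCat.of k))) hdim hreg hP
  have hcp : CompactSpace X := QuasiCompact.compactSpace_of_compactSpace (X ↘ (Spec (CommRingCat.of k)))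
  -- a closed point of `P`
  obtain ⟨q, hqP, hq⟩ := IsClosed.exists_closed_singleton P.support.isClosed ⟨gp hP, gp_mem hP⟩
  have hc : IsClosed ({f q} : Set C) := by
    have := f.isClosedMap _ hq
    rwa [Set.image_singleton] at this
  have hcl : IsClosedImmersion (C.fromSpecResidueField (f q)) := isClosed_singleton_iff_isClosedImmersion.mp hc
  have hE := K456.FibDiv.isEff_fiber f (f q) hdimC hregC hc
  set F := ic (f.fiberι (f q)).ker hE with hFdef
  -- the three intersection numbers
  have hFl : dot k X F l = 0 := by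
    refine dot_fiber_eq_zero k hreg hdim f (f q) hE hcl l fun D hD h => hvert D hD ?_
    rintro _ ⟨x, hx, rfl⟩ _ ⟨y, hy, rfl⟩
    rw [h x hx, h y hy]
  have hFF : dot k X F F = 0 :=
    dot_fiber_eq_zero k hreg hdim f (f q) hE hcl F fun D hD h =>
      degOn_fiber_eq_zero k hdimC hregC f (f q) hc hE D hD h
  have hgp : gp hP ∉ (f.fiberι (f q)).ker.support := by
    intro h
    rw [← support_subset_iff hP] at h
    obtain ⟨_, ⟨x, hx, rfl⟩, _, ⟨y, hy, rfl⟩, hxy⟩ := hPh
    apply hxy
    have h1 := (K456.FibDiv.mem_support_fiber f (f q) x).1 (h hx)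
    have h2 := (K456.FibDiv.mem_support_fiber f (f q) y).1 (h hy)
    rw [h1, h2]
  have hFP : degOn k X P F < 0 := by
    refine degOn_ic_neg k hP hE hgp ?_
    rw [Set.not_disjoint_iff]
    exact ⟨q, hqP, (K456.FibDiv.mem_support_fiber f (f q) q).2 rfl⟩
  have hPF : 0 < dot k X (ic P hPE) F := by
    rw [dot_ic_eq]
    linarith
  have hPl : dot k X (ic P hPE) l = 0 := by rw [dot_ic_eq, hlP, neg_zero]
  refine ⟨?_, fun h0 Y i _ _ hY => ?_⟩
  · by_contra hlt
    rw [not_le] at hlt
    have := hP.integral
    have h1 := hodge k hdim l F hlt hFl hFF.ge P.subschemeι ((dim_sub X P).trans hP.dim)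
    rw [Scheme.IdealSheafData.ker_subschemeι] at h1
    linarith
  · obtain ⟨n, hn⟩ := exists_pos (dot k X (ic P hPE) (ic P hPE)) (dot k X (ic P hPE) F) hPF
    refine hodge k hdim (ic P hPE * F ^ n) l ?_ ?_ h0.ge i hY
    · rw [dot_mul_left k X hd, dot_mul_right k X hd, dot_mul_right k X hd, dot_pow_right k X hd,
        dot_pow_left k X hd, dot_pow_left k X hd, dot_pow_right k X hd, hFF, dot_comm k X F (ic P hPE)]
      generalize dot k X (ic P hPE) (ic P hPE) = u at hn ⊢
      generalize dot k X (ic P hPE) F = v at hn ⊢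
      linarith
    · rw [dot_mul_right k X hd, dot_pow_right k X hd, dot_comm k X l, hPl, dot_comm k X l, hFl, mul_zero, add_zero]

end fib

end K332.HodgeFib
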