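import Groth.Agent.Surf.K332.MapFac
import Groth.Agent.FlatA.AppIso
import Groth.Agent.S1297
import Groth.Agent.S9683
import Groth.Agent.AbVar.K514.Stein

/-!
# Maps `Y × U → P` into a `P¹`-bundle over `Y` factor through `Y × C` with `dim C ≤ 1`: the Stein factorisation
-/

set_option autoImplicit false
universe u
open CategoryTheory CategoryTheory.Limits AlgebraicGeometry TopologicalSpace

namespace K332.MapFac

variable {k : Type u} [Field k] [IsAlgClosed k]

theorem main {Y U P : Scheme.{u}} (a : Y ⟶ Spec (CommRingCat.of k)) (b : U ⟶ Spec (CommRingCat.of k))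
    [LocallyOfFiniteType a] [IsReduced Y] [IrreducibleSpace Y] [IsProper b]
    (p : P ⟶ Y) [IsProper p]
    (hdim : ∀ y : Spec (CommRingCat.of k) ⟶ Y, topologicalKrullDim ↥(pullback p y) ≤ 1)
    (f : pullback a b ⟶ P) (hf : f ≫ p = pullback.fst a b) :
    ∃ (C : Scheme.{u}) (c : C ⟶ Spec (CommRingCat.of k)) (g : U ⟶ C) (hg : g ≫ c = b)
      (h : pullback a c ⟶ P), topologicalKrullDim C ≤ 1 ∧
        f = pullback.map a b a c (𝟙 Y) g (𝟙 _) ((Category.comp_id _).trans (Category.id_comp _).symm)
              ((Category.comp_id _).trans hg.symm) ≫ h := by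
  have hJY : JacobsonSpace ↥Y := LocallyOfFiniteType.jacobsonSpace a
  obtain ⟨y₀, -, hy₀ : IsClosed ({y₀} : Set Y)⟩ : (Set.univ ∩ closedPoints Y).Nonempty :=
    nonempty_inter_closedPoints Set.univ_nonempty isOpen_univ.isLocallyClosed
  let y : Spec (CommRingCat.of k) ⟶ Y := pointOfClosedPoint a y₀ hy₀
  have hya : y ≫ a = 𝟙 _ := pointOfClosedPoint_comp a y₀ hy₀
  let s : U ⟶ pullback a b := pullback.lift (b ≫ y) (𝟙 U) (by rw [Category.assoc, hya, Category.comp_id, Category.id_comp])
  have hs1 : s ≫ pullback.fst a b = b ≫ y := pullback.lift_fst _ _ _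
  have hs2 : s ≫ pullback.snd a b = 𝟙 U := pullback.lift_snd _ _ _
  let q : U ⟶ pullback p y := pullback.lift (s ≫ f) b (by rw [Category.assoc, hf, hs1])
  have hq1 : q ≫ pullback.fst p y = s ≫ f := pullback.lift_fst _ _ _
  have hq2 : q ≫ pullback.snd p y = b := pullback.lift_snd _ _ _
  have hqp : IsProper q := by
    have : IsProper (q ≫ pullback.snd p y) := by rw [hq2]; infer_instance
    exact IsProper.of_comp q (pullback.snd p y)
  have hNoeth : IsLocallyNoetherian (pullback p y) :=
    LocallyOfFiniteType.isLocallyNoetherian (pullback.snd p y)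
  have hfin : IsFinite q.fromNormalization := Groth.Agent.S1297.result q
  have hiso : ∀ V : q.normalization.Opens, IsIso (q.toNormalization.app V) := fun V =>
    Groth.Agent.FlatA.AppIso.isIso_toNormalization_app q V
  have hgp : IsProper q.toNormalization := by
    have : IsProper (q.toNormalization ≫ q.fromNormalization) := by
      rw [q.toNormalization_fromNormalization]; exact hqp
    exact IsProper.of_comp q.toNormalization q.fromNormalization
  have hinj : ∀ V : q.normalization.Opens, Function.Injective (q.toNormalization.app V).hom := fun V => by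
    have := hiso V
    exact (ConcreteCategory.bijective_of_isIso (q.toNormalization.app V)).injective
  have hgs : Surjective q.toNormalization :=
    K514.Stein.surjective_of_injective_app _ (q.toNormalization.isClosedMap.isClosed_range) hinj
  have hgc : q.toNormalization ≫ q.fromNormalization ≫ pullback.snd p y = b := by
    rw [← Category.assoc, q.toNormalization_fromNormalization, hq2]
  have hj : s ≫ f = q.toNormalization ≫ q.fromNormalization ≫ pullback.fst p y := by
    rw [← Category.assoc, q.toNormalization_fromNormalization, hq1]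
  obtain ⟨h, hh⟩ := core a b p f hf (q.fromNormalization ≫ pullback.snd p y) q.toNormalization hgc hiso y hya s
    hs1 hs2 _ hj
  exact ⟨q.normalization, q.fromNormalization ≫ pullback.snd p y, q.toNormalization, hgc, h,
    ((Groth.Agent.S9683.result q.fromNormalization).1).trans (hdim y), hh⟩

end K332.MapFac
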