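import Groth.Agent.CohqB.ProjBC
import Groth.Agent.Dix.ProjProper
import Groth.Agent.CohqA.ProjDim

/-!
# Zariski locally trivial `P¹`-bundles

`K332.P1Bun.isProper`: they are proper; `K332.P1Bun.dim_fibre_le`: the fibres over `Spec k` have dimension `≤ 1`.
-/

set_option autoImplicit false
universe u
open CategoryTheory CategoryTheory.Limits AlgebraicGeometry TopologicalSpace

namespace K332.P1Bun

variable {Y P : Scheme.{u}} (p : P ⟶ Y)

/-- a Zariski locally trivial `P¹`-bundle. -/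
def IsLT : Prop := ∀ y : Y, ∃ V : Y.Opens, y ∈ V ∧
      ∃ e : (↑(p ⁻¹ᵁ V) : Scheme.{u}) ≅ pullback (CohB1.ProjSpaceOver.toBase 1 Y) V.ι,
        e.hom ≫ pullback.snd (CohB1.ProjSpaceOver.toBase 1 Y) V.ι = p ∣_ V

variable {p}

theorem isProper (hP : IsLT p) : IsProper p := by
  choose V hyV e he using hP
  have hV : ⨆ y, V y = ⊤ := by
    rw [eq_top_iff]
    rintro y -
    exact Opens.mem_iSup.mpr ⟨y, hyV y⟩
  rw [IsZariskiLocalAtTarget.iff_of_iSup_eq_top (P := @IsProper) V hV]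
  intro y
  rw [← he y]
  have := Groth.Agent.Dix.ProjProper.isProper_toBase 1 Y
  infer_instance

theorem dim_fibre_le (hP : IsLT p) (k : Type u) [Field k] (y : Spec (CommRingCat.of k) ⟶ Y) :
    topologicalKrullDim ↥(pullback p y) ≤ 1 := by
  obtain ⟨V, hyV, e, he⟩ := hP (y (IsLocalRing.closedPoint k))
  have hr : Set.range y ⊆ Set.range V.ι := by
    rw [Scheme.Opens.range_ι]
    rintro _ ⟨x, rfl⟩
    have : x = IsLocalRing.closedPoint k := Subsingleton.elim (α := PrimeSpectrum k) _ _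
    rw [this]
    exact hyV
  obtain ⟨z, hz⟩ : ∃ z : Spec (CommRingCat.of k) ⟶ V, z ≫ V.ι = y :=
    ⟨IsOpenImmersion.lift V.ι y hr, IsOpenImmersion.lift_fac _ _ _⟩
  have s1 := (IsPullback.of_hasPullback (p ∣_ V) z).paste_horiz (isPullback_morphismRestrict p V).flip
  have s2 : IsPullback e.hom (p ∣_ V) (pullback.snd (CohB1.ProjSpaceOver.toBase 1 Y) V.ι) (𝟙 _) :=
    IsPullback.of_horiz_isIso ⟨by rw [he, Category.comp_id]⟩
  have s3 := ((IsPullback.of_hasPullback (p ∣_ V) z).paste_horiz s2).paste_horiz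
    (IsPullback.of_hasPullback (CohB1.ProjSpaceOver.toBase 1 Y) V.ι)
  have s4 := s3.paste_horiz (IsPullback.of_hasPullback (CohB1.ProjSpace.toSpec 1 (ULift.{u} ℤ))
    (specULiftZIsTerminal.from Y))
  have s5 := Groth.Agent.CohqB.ProjBC.isPullback_pmap
    ((Int.castRingHom k).comp (ULift.ringEquiv (R := ℤ)).toRingHom) 1
  have e5 : Spec.map (CommRingCat.ofHom ((Int.castRingHom k).comp
      (ULift.ringEquiv.{0, u} (R := ℤ)).toRingHom)) =
      ((z ≫ 𝟙 _) ≫ V.ι) ≫ specULiftZIsTerminal.from Y :=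
    specULiftZIsTerminal.hom_ext _ _
  rw [e5] at s5
  have i1 : pullback p (z ≫ V.ι) ≅ pullback (p ∣_ V) z := (IsPullback.of_hasPullback p (z ≫ V.ι)).isoIsPullback _ _ s1
  have i2 : pullback (p ∣_ V) z ≅ CohB1.ProjSpace 1 k := s4.isoIsPullback _ _ s5
  have i3 : pullback p y ≅ CohB1.ProjSpace 1 k := (eqToIso (by rw [hz])) ≪≫ i1 ≪≫ i2
  rw [(Scheme.homeoOfIso i3).isHomeomorph.topologicalKrullDim_eq]
  exact (Groth.Agent.CohqA.ProjDim.topologicalKrullDim_le k 1)

end K332.P1Bun
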