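import Groth.Agent.Sga1.EffEpi
import Groth.Agent.AutSch.K936.Rigid

/-!
# Morphisms which are constant on the fibres of a fibration factor

`K332.FacConst.exists_fac`: `g : S' ⟶ S` a topological quotient map with `O_S = g_* O_S'`; a morphism `e : S' ⟶ T`
which is constant on the fibres of `g` (as a map of sets) factors through `g`.
-/

set_option autoImplicit false
set_option maxHeartbeats 400000
set_option backward.isDefEq.respectTransparency false
open CategoryTheory CategoryTheory.Limits AlgebraicGeometry Opposite TopologicalSpace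
universe u

namespace K332.FacConst

open Groth.Agent.Sga1.EffEpi

/-- Morphisms constant on the fibres of a fibration factor. -/
theorem exists_fac {S' S : Scheme.{u}} (g : S' ⟶ S) (hq : Topology.IsQuotientMap g.base)
    (hiso : ∀ U : S.Opens, IsIso (g.app U)) {T : Scheme.{u}} (e : S' ⟶ T)
    (hfac : ∀ x y : S', g.base x = g.base y → e.base x = e.base y) :
    ∃ d : S ⟶ T, g ≫ d = e := by
  have hsurj : Surjective g := ⟨hq.surjective⟩
  have hinj : ∀ U : S.Opens, Function.Injective (g.app U).hom := fun U => by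
    have := hiso U
    exact (ConcreteCategory.bijective_of_isIso (g.app U)).injective
  obtain ⟨b, hb⟩ : ∃ b : C(S, T), ∀ x, b (g.base x) = e.base x := by
    have hqm : Topology.IsQuotientMap (⟨g.base, g.continuous⟩ : C(S', S)) := hq
    refine ⟨hqm.lift ⟨e.base, e.continuous⟩ (fun x y h => hfac x y h), fun x => ?_⟩
    exact congrArg (fun f : C(S', T) => f x) (hqm.lift_comp ⟨e.base, e.continuous⟩
      (fun x y h => hfac x y h))
  let U : T.Opens → S.Opens := fun V => Opens.comap b V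
  have hU : ∀ V : T.Opens, g ⁻¹ᵁ U V = e ⁻¹ᵁ V := by
    intro V
    ext x
    show b (g.base x) ∈ V ↔ e.base x ∈ V
    rw [hb]
  have hψ : ∀ V : T.Opens, ∃ ψ : Γ(T, V) ⟶ Γ(S, U V),
      ψ ≫ g.app (U V) = e.appLE V (g ⁻¹ᵁ U V) (hU V).le := by
    intro V
    have := hiso (U V)
    exact ⟨e.appLE V (g ⁻¹ᵁ U V) (hU V).le ≫ inv (g.app (U V)), by
      rw [Category.assoc, IsIso.inv_hom_id, Category.comp_id]⟩
  choose ψ hψ using hψ
  -- local morphisms
  let d : ∀ V : T.affineOpens, (U V.1 : Scheme.{u}) ⟶ T := fun V =>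
    (U V.1).toSpecΓ ≫ Spec.map (ψ V.1) ≫ V.2.fromSpec
  have hd : ∀ V : T.affineOpens, (g ∣_ (U V.1)) ≫ d V = (g ⁻¹ᵁ (U V.1)).ι ≫ e := by
    intro V
    have h1 : (g ∣_ (U V.1)) ≫ d V = (g ⁻¹ᵁ (U V.1)).toSpecΓ ≫ Spec.map (g.app (U V.1)) ≫
        Spec.map (ψ V.1) ≫ V.2.fromSpec := by
      simp only [d]
      rw [Scheme.Opens.toSpecΓ_naturality_assoc]
    rw [h1, ← Spec.map_comp_assoc, hψ, Scheme.Opens.toSpecΓ_SpecMap_appLE_assoc,
      IsAffineOpen.toSpecΓ_fromSpec, Scheme.Hom.resLE_comp_ι]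
  have hcov : IsOpenCover (fun V : T.affineOpens => U V.1) := by
    exact (Opens.IsBasis.isOpenCover T.isBasis_affineOpens).comap b
  let 𝒰 := S.openCoverOfIsOpenCover (fun V : T.affineOpens => U V.1) hcov
  have hcompat : ∀ V V' : T.affineOpens,
      pullback.fst (U V.1).ι (U V'.1).ι ≫ d V = pullback.snd (U V.1).ι (U V'.1).ι ≫ d V' := by
    intro V V'
    rw [← cancel_epi (isPullback_opens_inf (U V.1) (U V'.1)).isoPullback.hom,
      IsPullback.isoPullback_hom_fst_assoc, IsPullback.isoPullback_hom_snd_assoc]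
    have := epi_restrict g hinj (U V.1 ⊓ U V'.1)
    rw [← cancel_epi (g ∣_ (U V.1 ⊓ U V'.1))]
    have h1 : (g ∣_ (U V.1 ⊓ U V'.1)) ≫ S.homOfLE inf_le_left =
        S'.homOfLE (g.preimage_mono inf_le_left) ≫ (g ∣_ (U V.1)) := by
      rw [← cancel_mono (U V.1).ι]; simp
    have h2 : (g ∣_ (U V.1 ⊓ U V'.1)) ≫ S.homOfLE inf_le_right =
        S'.homOfLE (g.preimage_mono inf_le_right) ≫ (g ∣_ (U V'.1)) := by
      rw [← cancel_mono (U V'.1).ι]; simp
    rw [reassoc_of% h1, reassoc_of% h2, hd, hd]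
    simp
  refine ⟨𝒰.glueMorphisms d hcompat, ?_⟩
  have hcov' : IsOpenCover (fun V : T.affineOpens => g ⁻¹ᵁ (U V.1)) := hcov.comap ⟨g.base, g.continuous⟩
  refine Scheme.Cover.hom_ext (S'.openCoverOfIsOpenCover _ hcov') _ _ (fun V => ?_)
  have h3 : (U V.1).ι ≫ 𝒰.glueMorphisms d hcompat = d V :=
    Scheme.Cover.ι_glueMorphisms 𝒰 d hcompat V
  show (g ⁻¹ᵁ (U V.1)).ι ≫ g ≫ _ = (g ⁻¹ᵁ (U V.1)).ι ≫ e
  rw [← morphismRestrict_ι_assoc, h3, hd]

/-- The version for closed surjective morphisms. -/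
theorem exists_fac_of_isClosedMap {S' S : Scheme.{u}} (g : S' ⟶ S) [Surjective g] (hcl : IsClosedMap g)
    (hiso : ∀ U : S.Opens, IsIso (g.app U)) {T : Scheme.{u}} (e : S' ⟶ T)
    (hfac : ∀ x y : S', g x = g y → e x = e y) :
    ∃ d : S ⟶ T, g ≫ d = e :=
  exists_fac g (hcl.isQuotientMap g.continuous g.surjective) hiso e hfac

end K332.FacConst
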