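import Groth.Agent.Surf.K464.DivLat
import Groth.Agent.Surf.K456.FibDiv
import Groth.Agent.Surf.K458.Decomp
import Groth.Agent.S3234

/-!
# The Hodge index theorem for modules orthogonal to the fibres of a surface over a curve (K332)
-/

set_option autoImplicit false
universe u
open CategoryTheory CategoryTheory.Limits AlgebraicGeometry Opposite TopologicalSpace

namespace K332.HodgeFib

open Groth.Agent Groth.Agent.Grpsch.PicGrp Groth.Agent.Dix.IdealModCartier Groth.Agent.Divis.EffCartier
  Groth.Agent.Fga.PicMon Groth.Agent.Fga.AltSum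
open K464.Base K464.Curves

section num

variable (k : Type u) [Field k] {X : Scheme.{u}} [X.Over (Spec (CommRingCat.of k))]

/-- `FGA.intNum` for one module. -/
theorem intNum_one_eq (A F : X.Modules) (d : ℕ) : FGA.intNum k X d ![A] F =
    FGA.eulerCharLE k X F d - FGA.eulerCharLE k X (CohB1.tensorMod A F) d := by
  have h1 : (![A] : Fin 1 → X.Modules) = (Fin.cons A (Fin.elim0 : Fin 0 → X.Modules) : Fin (0 + 1) → X.Modules) := by
    funext i
    fin_cases i
    rfl
  have h2 := intNum_cons k X d A (Fin.elim0 : Fin 0 → X.Modules) F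
  rw [intNum_zero, intNum_zero] at h2
  rw [h1]
  exact h2

variable [IsProper (X ↘ Spec (CommRingCat.of k))]

/-- The intersection number of `L` with a closed subscheme is the degree up to sign. -/
theorem intNum_curve (hd : topologicalKrullDim X ≤ (2 : ℕ)) {Y : Scheme.{u}} (i : Y ⟶ X) [IsClosedImmersion i]
    {L : X.Modules} (hL : PicF.IsInvertible L) :
    FGA.intNum k X 2 ![L] ((Coh.push i).obj (Coh.structureModule Y)) = - degOn k X i.ker (mk L hL) := by
  obtain ⟨e⟩ := K456.Base.quotIso i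
  have e' : ClSub.quotMod i.ker ≅ (Coh.push i).obj (Coh.structureModule Y) := e
  rw [intNum_one_eq, Fga.IntAdd.eulerCharLE_eq k X 2 hd, Fga.IntAdd.eulerCharLE_eq k X 2 hd, degOn_mk,
    ← euler_congr k X e', euler_congr k X (Ega2.Tens.mapTIso (Iso.refl L) e'.symm),
    euler_congr k X (Ega2.Tens.swap L (ClSub.quotMod i.ker))]
  ring

omit [X.Over (Spec (CommRingCat.of k))] [IsProper (X ↘ Spec (CommRingCat.of k))] in
/-- The ideal of an integral closed curve. -/
theorem isCurve_ker {Y : Scheme.{u}} (i : Y ⟶ X) [IsClosedImmersion i] [IsIntegral Y]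
    (hY : topologicalKrullDim Y = 1) : IsCurve i.ker := by
  have e : Y ≅ i.ker.subscheme := asIso i.toImage
  have : Nonempty i.ker.subscheme := ⟨e.hom (genericPoint Y)⟩
  have hCi : IsIntegral i.ker.subscheme := isIntegral_of_isOpenImmersion e.inv
  refine ⟨hCi, ?_⟩
  rw [← dim_sub X i.ker, ← hY]
  exact (IsHomeomorph.topologicalKrullDim_eq _ e.hom.homeomorph.isHomeomorph).symm

/-- The Hodge index theorem in terms of classes. -/
theorem hodge [GeometricallyIrreducible (X ↘ Spec (CommRingCat.of k))] (hdim : topologicalKrullDim X = 2)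
    (a b : Pic X) (hpos : 0 < dot k X a a) (h0 : dot k X b a = 0) (hnn : 0 ≤ dot k X b b)
    {Y : Scheme.{u}} (i : Y ⟶ X) [IsClosedImmersion i] [IsIntegral Y] (hY : topologicalKrullDim Y = 1) :
    degOn k X i.ker b = 0 := by
  have hd : topologicalKrullDim X ≤ (2 : ℕ) := by rw [hdim]; rfl
  obtain ⟨A, hA, hA'⟩ := exists_mk a
  obtain ⟨B, hB, hB'⟩ := exists_mk b
  obtain ⟨A', hA1, hA1'⟩ := exists_mk a⁻¹
  obtain ⟨B', hB1, hB1'⟩ := exists_mk b⁻¹
  have e1 : Nonempty (CohB1.tensorMod A' A ≅ Coh.structureModule X) := by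
    rw [← mk_eq_one_iff (Groth.Agent.Fdesc.LocGen.isInvertible_tensorMod hA1 hA), ← mk_mul_mk hA1 hA, ← hA1', ← hA', inv_mul_cancel]
  have e2 : Nonempty (CohB1.tensorMod B' B ≅ Coh.structureModule X) := by
    rw [← mk_eq_one_iff (Groth.Agent.Fdesc.LocGen.isInvertible_tensorMod hB1 hB), ← mk_mul_mk hB1 hB, ← hB1', ← hB', inv_mul_cancel]
  have h := S3234.result k X hdim A' A B' B hA1 hB1 e1 e2
    (by rw [intNum_eq_dot k X hd hA hA, ← hA']; exact hpos)
    (by rw [intNum_eq_dot k X hd hB hA, ← hA', ← hB']; exact h0)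
    (by rw [intNum_eq_dot k X hd hB hB, ← hB']; exact hnn) Y i hY
  rw [intNum_curve k hd i hB, ← hB'] at h
  linarith

end num

end K332.HodgeFib
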