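import Groth.Agent.Surf.K332.FacConst
import Groth.Agent.Variety.K436.FibBC
import Mathlib.AlgebraicGeometry.AlgClosed.Basic

/-!
# Maps `Y × U → P` into a `P¹`-bundle over `Y` factor through `Y × C` with `dim C ≤ 1`

`k` algebraically closed, `Y` irreducible and reduced, locally of finite type, `U` proper over `k`.
-/

set_option autoImplicit false
universe u
open CategoryTheory CategoryTheory.Limits AlgebraicGeometry TopologicalSpace

namespace K332.MapFac

theorem range_fst {P X Y Z : Scheme.{u}} {a : P ⟶ X} {b : P ⟶ Y} {f : X ⟶ Z} {g : Y ⟶ Z}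
    (h : IsPullback a b f g) : Set.range a = f ⁻¹' Set.range g := by
  rw [← Scheme.Pullback.range_fst]
  ext x
  constructor
  · rintro ⟨y, rfl⟩
    exact ⟨h.isoPullback.hom y, by rw [← Scheme.Hom.comp_apply, h.isoPullback_hom_fst]⟩
  · rintro ⟨y, rfl⟩
    obtain ⟨z, rfl⟩ := h.isoPullback.hom.surjective y
    exact ⟨z, by rw [← Scheme.Hom.comp_apply, h.isoPullback_hom_fst]⟩

variable {k : Type u} [Field k] [IsAlgClosed k]

theorem ext_pt {X : Scheme.{u}} (h : X ⟶ Spec (CommRingCat.of k)) [LocallyOfFiniteType h]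
    {f g : Spec (CommRingCat.of k) ⟶ X} (hf : f ≫ h = 𝟙 _) (hg : g ≫ h = 𝟙 _) (w : ↥(Spec (CommRingCat.of k)))
    (H : f w = g w) : f = g := by
  refine ext_of_apply_closedPoint_eq h hf hg ?_
  have : (IsLocalRing.closedPoint k : ↥(Spec (CommRingCat.of k))) = w :=
    Subsingleton.elim (α := PrimeSpectrum k) _ _
  exact (congrArg (fun t : ↥(Spec (CommRingCat.of k)) => f t) this).trans
    (H.trans (congrArg (fun t : ↥(Spec (CommRingCat.of k)) => g t) this).symm)

theorem isClosed_pt {X : Scheme.{u}} (h : X ⟶ Spec (CommRingCat.of k)) [LocallyOfFiniteType h]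
    (f : Spec (CommRingCat.of k) ⟶ X) (hf : f ≫ h = 𝟙 _) (w : ↥(Spec (CommRingCat.of k))) :
    IsClosed ({f w} : Set X) := by
  have h1 := (pointEquivClosedPoint h ⟨f, hf⟩).2
  have : (IsLocalRing.closedPoint k : ↥(Spec (CommRingCat.of k))) = w :=
    Subsingleton.elim (α := PrimeSpectrum k) _ _
  subst this
  exact h1

/-- The core: a factorisation from a fibration `g : U ⟶ C` contracted by `f` over one closed point. -/
theorem core {Y U P C : Scheme.{u}} (a : Y ⟶ Spec (CommRingCat.of k)) (b : U ⟶ Spec (CommRingCat.of k))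
    [LocallyOfFiniteType a] [IsReduced Y] [IrreducibleSpace Y] [IsProper b]
    (p : P ⟶ Y) [IsProper p] (f : pullback a b ⟶ P) (hf : f ≫ p = pullback.fst a b)
    (c : C ⟶ Spec (CommRingCat.of k)) [LocallyOfFiniteType c] (g : U ⟶ C) (hg : g ≫ c = b)
    [IsProper g] [Surjective g] (hiso : ∀ V : C.Opens, IsIso (g.app V))
    (y : Spec (CommRingCat.of k) ⟶ Y) (hya : y ≫ a = 𝟙 _) (s : U ⟶ pullback a b)
    (hs1 : s ≫ pullback.fst a b = b ≫ y) (hs2 : s ≫ pullback.snd a b = 𝟙 U) (j : C ⟶ P) (hj : s ≫ f = g ≫ j) :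
    ∃ h : pullback a c ⟶ P,
        f = pullback.map a b a c (𝟙 Y) g (𝟙 _) ((Category.comp_id _).trans (Category.id_comp _).symm)
              ((Category.comp_id _).trans hg.symm) ≫ h := by
  have hJY : JacobsonSpace ↥Y := LocallyOfFiniteType.jacobsonSpace a
  have hJX : JacobsonSpace ↥(pullback a b) := LocallyOfFiniteType.jacobsonSpace (pullback.fst a b ≫ a)
  obtain ⟨w₀⟩ : Nonempty ↥(Spec (CommRingCat.of k)) := ⟨(IsLocalRing.closedPoint k : PrimeSpectrum k)⟩
  obtain ⟨F, hF1, hF2, hF3⟩ := K436.FibBC.exists_fib g b c hg a (IsPullback.of_hasPullback a c).flip hiso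
    (IsPullback.of_hasPullback a b).flip
  have hFp : IsProper F := MorphismProperty.of_isPullback hF2 inferInstance
  have hFs : Surjective F := MorphismProperty.of_isPullback hF2 inferInstance
  let Wc : Set ↥(pullback a c) := {z | ∀ x x' : ↥(pullback a b), F x = z → F x' = z → f x = f x'}
  have hWc : IsOpen Wc := K936.Rigid.isOpen_contracted F F.isClosedMap hF3 f
  -- the fibre over `y`
  have sq : IsPullback s b (pullback.fst a b) y :=
    IsPullback.of_right (by rw [hs2, hya]; exact IsPullback.of_horiz_isIso ⟨by simp⟩) hs1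
      (IsPullback.of_hasPullback a b).flip
  have hrs := range_fst sq
  have step1 : ∀ x : ↥(pullback a b), (pullback.fst a b) x ∈ Set.range y → F x ∈ Wc := by
    intro x hx α β hα hβ
    have e1 : ∀ w : ↥(pullback a b), F w = F x → (pullback.fst a b) w ∈ Set.range y := by
      intro w hw
      rw [← hF1, Scheme.Hom.comp_apply, hw, ← Scheme.Hom.comp_apply, hF1]
      exact hx
    have e2 : ∀ w : ↥(pullback a b), F w = F x → ∃ v, s v = w := by
      intro w hw
      have : w ∈ (pullback.fst a b) ⁻¹' Set.range y := e1 w hw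
      rw [← hrs] at this
      exact this
    obtain ⟨v, rfl⟩ := e2 α hα
    obtain ⟨v', rfl⟩ := e2 β hβ
    have e3 : ∀ v : U, g v = (pullback.snd a c) (F (s v)) := by
      intro v
      rw [← Scheme.Hom.comp_apply, ← hF2.w, Scheme.Hom.comp_apply, ← Scheme.Hom.comp_apply s, hs2]
      simp
    have e4 : ∀ v : U, f (s v) = j (g v) := by
      intro v
      rw [← Scheme.Hom.comp_apply, hj, Scheme.Hom.comp_apply]
    rw [e4, e4, e3, e3, hα, hβ]
  let Z : Set ↥(pullback a b) := (F ⁻¹' Wc)ᶜ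
  have hZ : IsClosed Z := (hWc.preimage F.continuous).isClosed_compl
  let T : Set Y := (pullback.fst a b) '' Z
  have hT : IsClosed T := (pullback.fst a b).isClosedMap _ hZ
  have hyT : y w₀ ∈ Tᶜ := by
    rintro ⟨x, hx, hx'⟩
    exact hx (step1 x (hx' ▸ ⟨_, rfl⟩))
  have hdense : Dense Tᶜ := hT.isOpen_compl.dense ⟨_, hyT⟩
  -- sections through points of `U` in the same fibre of `g`
  have step3 : ∀ (u₁ u₂ : Spec (CommRingCat.of k) ⟶ U) (h₁ : u₁ ≫ b = 𝟙 _) (h₂ : u₂ ≫ b = 𝟙 _),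
      g (u₁ w₀) = g (u₂ w₀) →
      ∀ (t₁ t₂ : Y ⟶ pullback a b), t₁ ≫ pullback.fst a b = 𝟙 _ → t₂ ≫ pullback.fst a b = 𝟙 _ →
        t₁ ≫ pullback.snd a b = a ≫ u₁ → t₂ ≫ pullback.snd a b = a ≫ u₂ → t₁ ≫ f = t₂ ≫ f := by
    intro u₁ u₂ h₁ h₂ hu t₁ t₂ ht₁ ht₂ ht₁' ht₂'
    have hug : u₁ ≫ g = u₂ ≫ g := by
      refine ext_pt c (by rw [Category.assoc, hg, h₁]) (by rw [Category.assoc, hg, h₂]) w₀ ?_
      rw [Scheme.Hom.comp_apply, Scheme.Hom.comp_apply, hu]
    have htF : t₁ ≫ F = t₂ ≫ F := by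
      refine pullback.hom_ext ?_ ?_
      · rw [Category.assoc, Category.assoc, hF1, ht₁, ht₂]
      · rw [Category.assoc, Category.assoc, ← hF2.w, reassoc_of% ht₁', reassoc_of% ht₂', hug]
    have hp₁ : (t₁ ≫ f) ≫ p = 𝟙 _ := by rw [Category.assoc, hf, ht₁]
    have hp₂ : (t₂ ≫ f) ≫ p = 𝟙 _ := by rw [Category.assoc, hf, ht₂]
    refine ext_of_fromSpecResidueField_eq (t₁ ≫ f) (t₂ ≫ f) p (Tᶜ ∩ closedPoints Y) ?_ ?_ (hp₁.trans hp₂.symm)
    · rwa [dense_iff_closure_eq, JacobsonSpace.closure_inter_closedPoints_eq_closure hT.isOpen_compl.isLocallyClosed,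
        ← dense_iff_closure_eq]
    · rintro x ⟨hxT, hx : IsClosed ({x} : Set Y)⟩
      rw [← cancel_epi (Spec.map (residueFieldIsoBase a x hx).hom)]
      have e0 : (Spec.map (residueFieldIsoBase a x hx).hom ≫ Y.fromSpecResidueField x) ≫ a = 𝟙 _ :=
        pointOfClosedPoint_comp a x hx
      have e0' : ∀ w, (Spec.map (residueFieldIsoBase a x hx).hom ≫ Y.fromSpecResidueField x) w = x :=
        pointOfClosedPoint_apply a x hx
      refine ext_pt (p ≫ a) ?_ ?_ w₀ ?_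
      · rw [← Category.assoc, ← Category.assoc, Category.assoc _ (t₁ ≫ f) p, hp₁, Category.comp_id, e0]
      · rw [← Category.assoc, ← Category.assoc, Category.assoc _ (t₂ ≫ f) p, hp₂, Category.comp_id, e0]
      · have key : ∀ t : Y ⟶ pullback a b, (Spec.map (residueFieldIsoBase a x hx).hom ≫
            Y.fromSpecResidueField x ≫ t ≫ f) w₀ = f (t x) := by
          intro t
          have e : Spec.map (residueFieldIsoBase a x hx).hom ≫ Y.fromSpecResidueField x ≫ t ≫ f =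
              ((Spec.map (residueFieldIsoBase a x hx).hom ≫ Y.fromSpecResidueField x) ≫ t) ≫ f := by
            simp only [Category.assoc]
          rw [e, Scheme.Hom.comp_apply, Scheme.Hom.comp_apply, e0']
        rw [key, key]
        have hin : F (t₁ x) ∈ Wc := by
          by_contra hc
          exact hxT ⟨t₁ x, hc, by rw [← Scheme.Hom.comp_apply, ht₁]; rfl⟩
        exact hin _ _ rfl (by rw [← Scheme.Hom.comp_apply, ← Scheme.Hom.comp_apply, htF])
  -- constancy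
  have hfac : ∀ x x' : ↥(pullback a b), F x = F x' → f x = f x' := by
    by_contra hcon
    push Not at hcon
    obtain ⟨x, x', hxx', hne⟩ := hcon
    have hxZ : x ∈ Z := fun hc => hne (hc x x' rfl hxx'.symm)
    obtain ⟨x₁, hx₁Z, hx₁ : IsClosed ({x₁} : Set ↥(pullback a b))⟩ :=
      nonempty_inter_closedPoints ⟨x, hxZ⟩ hZ.isLocallyClosed
    obtain ⟨α, hα, hαne⟩ : ∃ α, F α = F x₁ ∧ f α ≠ f x₁ := by
      by_contra hc
      push Not at hc
      exact hx₁Z fun α β hα hβ => (hc α hα).trans (hc β hβ).symm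
    have pts : ∀ w : ↥(pullback a b), IsClosed ({w} : Set ↥(pullback a b)) →
        ∃ ξ : Spec (CommRingCat.of k) ⟶ pullback a b, ξ ≫ pullback.fst a b ≫ a = 𝟙 _ ∧
          ξ w₀ = w := fun w hw =>
      ⟨pointOfClosedPoint (pullback.fst a b ≫ a) w hw, pointOfClosedPoint_comp _ w hw,
        pointOfClosedPoint_apply _ w hw _⟩
    obtain ⟨ξ₁, hξ₁, hξ₁'⟩ := pts x₁ hx₁
    have hcl1 : IsClosed ({F x₁} : Set ↥(pullback a c)) := by
      have := F.isClosedMap _ hx₁
      rwa [Set.image_singleton] at this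
    have hcl2 : IsClosed ({f x₁} : Set P) := by
      have := isClosed_pt (p ≫ a) (ξ₁ ≫ f) (by rw [Category.assoc, reassoc_of% hf, hξ₁]) w₀
      rwa [Scheme.Hom.comp_apply, hξ₁'] at this
    obtain ⟨x₂, ⟨hx₂a, hx₂b⟩, hx₂ : IsClosed ({x₂} : Set ↥(pullback a b))⟩ :=
      nonempty_inter_closedPoints (Z := F ⁻¹' {F x₁} ∩ (f ⁻¹' {f x₁})ᶜ) ⟨α, hα, hαne⟩
        ((hcl1.preimage F.continuous).isLocallyClosed.inter
          (hcl2.preimage f.continuous).isOpen_compl.isLocallyClosed)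
    obtain ⟨ξ₂, hξ₂, hξ₂'⟩ := pts x₂ hx₂
    have hFx : F x₂ = F x₁ := hx₂a
    have hη : ξ₁ ≫ pullback.fst a b = ξ₂ ≫ pullback.fst a b := by
      refine ext_pt a (by rw [Category.assoc, hξ₁]) (by rw [Category.assoc, hξ₂]) w₀ ?_
      rw [Scheme.Hom.comp_apply, Scheme.Hom.comp_apply, hξ₁', hξ₂', ← hF1, Scheme.Hom.comp_apply,
        Scheme.Hom.comp_apply, hFx]
    have hu : ∀ ξ : Spec (CommRingCat.of k) ⟶ pullback a b, ξ ≫ pullback.fst a b ≫ a = 𝟙 _ →
        (ξ ≫ pullback.snd a b) ≫ b = 𝟙 _ := by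
      intro ξ hξ
      rw [Category.assoc, ← pullback.condition, hξ]
    classical
    let t : (Spec (CommRingCat.of k) ⟶ U) → (Y ⟶ pullback a b) := fun u =>
      if h : u ≫ b = 𝟙 _ then pullback.lift (𝟙 Y) (a ≫ u) (by rw [Category.assoc, h, Category.id_comp, Category.comp_id])
      else (a ≫ u ≫ s)
    have ht : ∀ u : Spec (CommRingCat.of k) ⟶ U, u ≫ b = 𝟙 _ →
        t u ≫ pullback.fst a b = 𝟙 _ ∧ t u ≫ pullback.snd a b = a ≫ u := by
      intro u hu
      simp only [t, dif_pos hu]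
      exact ⟨pullback.lift_fst _ _ _, pullback.lift_snd _ _ _⟩
    have hξt : ∀ ξ : Spec (CommRingCat.of k) ⟶ pullback a b, ξ ≫ pullback.fst a b ≫ a = 𝟙 _ →
        ξ = (ξ ≫ pullback.fst a b) ≫ t (ξ ≫ pullback.snd a b) := by
      intro ξ hξ
      refine pullback.hom_ext ?_ ?_
      · rw [Category.assoc, (ht _ (hu ξ hξ)).1, Category.comp_id]
      · rw [Category.assoc, (ht _ (hu ξ hξ)).2, Category.assoc, reassoc_of% hξ]
    have hσ := step3 (ξ₁ ≫ pullback.snd a b) (ξ₂ ≫ pullback.snd a b) (hu ξ₁ hξ₁) (hu ξ₂ hξ₂) (by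
      rw [Scheme.Hom.comp_apply, Scheme.Hom.comp_apply, hξ₁', hξ₂', ← Scheme.Hom.comp_apply _ g,
        ← Scheme.Hom.comp_apply _ g, hF2.w, Scheme.Hom.comp_apply, Scheme.Hom.comp_apply, hFx])
      _ _ (ht _ (hu ξ₁ hξ₁)).1 (ht _ (hu ξ₂ hξ₂)).1 (ht _ (hu ξ₁ hξ₁)).2 (ht _ (hu ξ₂ hξ₂)).2
    apply hx₂b
    have e1 : ξ₂ ≫ f = ξ₁ ≫ f := by
      rw [hξt ξ₂ hξ₂, hξt ξ₁ hξ₁, Category.assoc, Category.assoc _ _ f, hσ, hη]
    have e2 : (ξ₂ ≫ f) w₀ = (ξ₁ ≫ f) w₀ := by rw [e1]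
    rw [Scheme.Hom.comp_apply, Scheme.Hom.comp_apply, hξ₁', hξ₂'] at e2
    exact e2
  obtain ⟨d, hd⟩ := K332.FacConst.exists_fac_of_isClosedMap F F.isClosedMap hF3 f hfac
  refine ⟨d, ?_⟩
  rw [← hd]
  congr 1
  refine pullback.hom_ext ?_ ?_
  · rw [hF1, pullback.lift_fst, Category.comp_id]
  · rw [pullback.lift_snd, hF2.w]

end K332.MapFac
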